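import Cfsg.Agent.H839.Eleven

/-!
# Subgroups of order 11 of `Fi23`: the normalizer (helper839)
-/

set_option autoImplicit false
set_option linter.constructorNameAsVariable false
set_option maxRecDepth 100000

namespace Cfsg.Agent.H839.Fi23

open Subgroup Cfsg Cfsg.Agent.Lib.PermNet Cfsg.Agent.Fischer.Fi23Hom Cfsg.Agent.LThreeFi23
open Cfsg.Agent.H838.Fi23 (SL el_mem elw_mem SL_comm SL_fix stepChk stepChk_spec chain_step DD T_mem el_mem_DD
  DD_conj mem_DD_centralizer)
open Cfsg.Spor (Fi23)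

/-- an element normalizing `⟨y11⟩` and centralizing the two transpositions -/
def s11 : List Lt := [.h, .i, .a, .b, .c, .d, .h, .g, .e, .f, .c, .d, .e, .b, .c, .d, .h, .i, .e, .f, .d, .e, .b, .c, .d, .h, .a, .b, .c, .d, .e, .f, .g, .h, .f, .d, .e, .a, .b, .c, .d, .h, .i, .d, .e, .b, .c, .d, .h, .a, .b, .c, .d, .e, .f, .i, .d, .e, .c, .d, .h, .a, .b, .c, .d, .e, .h, .d, .i, .h, .c, .b, .i]

/-- an element inverting `y11` and exchanging the two transpositions -/
def t11 : List Lt := [.j, .h, .i, .d, .h, .e, .f, .c, .d, .e, .a, .b, .c, .d, .h, .i, .g, .e, .f, .c, .d, .e, .b, .c, .d, .h, .a, .b, .c, .d, .e, .f, .g, .j, .i, .h, .g, .f, .c, .d, .e, .b, .c, .d, .h, .i, .d, .e, .f, .c, .d, .e, .b, .c, .d, .h, .a, .b, .c, .d, .e, .f, .g, .e, .d, .h, .i, .f, .d, .e, .c, .d, .h, .a, .b, .c, .d, .e, .f, .d, .h, .c, .d, .h, .a, .i]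

theorem c_s11 : agree (s11 ++ y11) (y11 ++ (y11 ++ (y11 ++ (y11 ++ s11))))
    [11589, 8004, 8003, 8000, 8002, 8005, 7999, 8007, 8006, 0] = true := by
  decide +kernel

theorem c_t11 : agree (t11 ++ y11) (y11.reverse ++ t11)
    [11589, 8004, 8003, 8000, 8002, 8005, 7999, 8007, 8006, 0] = true := by
  decide +kernel

theorem p_s11 : Nat.beq (ptw s11 18119) 18119 = true := by decide +kernel
theorem p_t11 : Nat.beq (ptw t11 0) 18119 = true := by decide +kernel

theorem s11_conj : elw s11 * elw y11 * (elw s11)⁻¹ = elw y11 ^ 4 := by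
  have h := elw_eq_of_agree c_s11
  simp only [elw_append] at h
  rw [h]
  simp only [pow_succ, pow_zero, one_mul, mul_assoc, mul_inv_cancel, mul_one]

theorem t11_conj : elw t11 * elw y11 * (elw t11)⁻¹ = (elw y11)⁻¹ := by
  have h := elw_eq_of_agree c_t11
  rw [elw_append, elw_append, elw_reverse] at h
  rw [h, mul_inv_cancel_right]

theorem s11_z : elw s11 * el .z = el .z * elw s11 := by
  rw [← elw_one]
  exact comm_words _ _ (by decide +kernel)

theorem s11_tt : elw s11 * tt = tt * elw s11 := by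
  have h := Nat.eq_of_beq_eq_true p_s11
  rw [ptw_eq] at h
  exact (fix_iff _ (by norm_num)).1 h

/-- the element of order 5 -/
noncomputable def ss : Fi23 := elw s11 ^ 6

theorem zi {i j : ℤ} (h : ((i : ZMod 11)) = ((j : ℤ) : ZMod 11)) : elw y11 ^ i = elw y11 ^ j :=
  (Cfsg.Agent.H838.Norm.zpow_eq_iff (by norm_num : Nat.Prime 11) pow11 y11_ne i j).2 h

theorem ss_conj : ss * elw y11 * ss⁻¹ = elw y11 ^ 4 := by
  have h1 := Cfsg.Agent.H838.Norm.conj_pow_zpow s11_conj 6 1
  rw [zpow_one, mul_one] at h1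
  unfold ss
  rw [h1, ← zpow_natCast (elw y11) 4]
  exact zi (by decide)

theorem conj_zp {u : Fi23} {k : ℕ} (h : u * elw y11 * u⁻¹ = elw y11 ^ k) (hk : ((k : ℤ) : ZMod 11) = 1) :
    u * elw y11 = elw y11 * u := by
  have h2 : elw y11 ^ k = elw y11 := by
    rw [← zpow_natCast]
    conv_rhs => rw [← zpow_one (elw y11)]
    exact zi (by rw [hk]; simp)
  calc u * elw y11 = u * elw y11 * u⁻¹ * u := by group
    _ = elw y11 * u := by rw [h, h2]

theorem K4_sq {x : Fi23} (hx : x ∈ K4) : x ^ 2 = 1 := by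
  have hc : ∀ a ∈ K4, ∀ b ∈ K4, a * b = b * a := by
    intro a ha b hb
    refine K4_comm ?_ ?_ hb
    · exact (K4_comm (g := el .z) rfl z_tt ha).symm
    · exact (K4_comm (g := tt) z_tt.symm rfl ha).symm
  refine closure_induction (p := fun x _ => x ^ 2 = 1) ?_ (one_pow _) ?_ ?_ hx
  · rintro x (rfl | rfl)
    · rw [pow_two, el_sq]
    · rw [pow_two, tt_sq]
  · intro a b ha hb h1 h2
    rw [(show Commute a b from hc a ha b hb).mul_pow, h1, h2, one_mul]
  · intro a _ h
    rw [inv_pow, h, inv_one]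

theorem ss_z : ss * el .z = el .z * ss := ((show Commute (elw s11) (el .z) from s11_z).pow_left 6).eq
theorem ss_tt : ss * tt = tt * ss := ((show Commute (elw s11) tt from s11_tt).pow_left 6).eq

theorem ss_pow : ss ^ 5 = 1 := by
  refine FrobGen.pow_eq_one_of_mem (by norm_num : Nat.Prime 11) pow11 y11_ne ss_conj (by decide) ?_
  -- `s11 ^ 5 = y11 ^ i * x`
  have h5 : elw s11 ^ 5 * elw y11 = elw y11 * elw s11 ^ 5 := by
    have h1 := Cfsg.Agent.H838.Norm.conj_pow_zpow s11_conj 5 1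
    rw [zpow_one, mul_one] at h1
    have h2 : elw y11 ^ ((((4 : ℕ) : ℤ)) ^ 5) = elw y11 := by
      have h3 : elw y11 ^ ((((4 : ℕ) : ℤ)) ^ 5) = elw y11 ^ (1 : ℤ) := zi (by decide)
      rw [h3, zpow_one]
    rw [h2] at h1
    calc elw s11 ^ 5 * elw y11 = elw s11 ^ 5 * elw y11 * (elw s11 ^ 5)⁻¹ * elw s11 ^ 5 := by group
      _ = elw y11 * elw s11 ^ 5 := by rw [h1]
  have hz5 : elw s11 ^ 5 * el .z = el .z * elw s11 ^ 5 :=
    ((show Commute (elw s11) (el .z) from s11_z).pow_left 5).eq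
  have h0 : rho (elw s11 ^ 5) 0 = 0 := comm_of_el (x := .z) rfl hz5
  obtain ⟨i, x, hx, hxx⟩ := cent11 h5 h0
  have h6 : ss ^ 5 = (elw s11 ^ 5) ^ 6 := by
    unfold ss
    rw [← pow_mul, ← pow_mul]
  rw [h6, hxx, (show Commute (elw y11 ^ i) x from
    ((show Commute (elw y11) x from K4_comm_y hx).zpow_left i)).mul_pow, show (6 : ℕ) = 2 * 3 from rfl,
    pow_mul x, K4_sq hx, one_pow, mul_one]
  exact pow_mem (zpow_mem (mem_zpowers _) _) _

/-! ### Orders -/

theorem card_z : Nat.card ↥(zpowers (el .z)) = 2 := by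
  have : Fact (Nat.Prime 2) := ⟨Nat.prime_two⟩
  rw [Nat.card_zpowers]
  apply orderOf_eq_prime (by rw [pow_two, el_sq])
  intro h
  have h1 := m_0
  rw [ptw_eq, elw_one, h, map_one] at h1
  exact absurd h1 (by decide)

theorem tt_ne : tt ≠ 1 := by
  intro h
  have h1 : el .z = 1 := by
    have h2 := tt_eq
    rw [h] at h2
    calc el .z = (elw q11)⁻¹ * (elw q11 * el .z * (elw q11)⁻¹) * elw q11 := by group
      _ = 1 := by rw [← h2]; group
  have h2 := card_z
  rw [h1, zpowers_one_eq_bot, card_bot] at h2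
  norm_num at h2

theorem card_tt : Nat.card ↥(zpowers tt) = 2 := by
  have : Fact (Nat.Prime 2) := ⟨Nat.prime_two⟩
  rw [Nat.card_zpowers]
  exact orderOf_eq_prime (by rw [pow_two, tt_sq]) tt_ne

theorem K4_eq : K4 = zpowers (el .z) ⊔ zpowers tt := by
  apply le_antisymm
  · unfold K4
    rw [closure_le]
    rintro x (rfl | rfl)
    · exact mem_sup_left (mem_zpowers _)
    · exact mem_sup_right (mem_zpowers _)
  · rw [sup_le_iff, zpowers_le, zpowers_le]
    exact ⟨z_mem_K4, tt_mem_K4⟩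

theorem mem_zp_two {a x : Fi23} (ha : a * a = 1) (hx : x ∈ zpowers a) : x = 1 ∨ x = a := by
  obtain ⟨i, rfl⟩ := hx
  rcases Int.even_or_odd' i with ⟨k, rfl | rfl⟩
  · left
    change a ^ (2 * k) = 1
    rw [zpow_mul, zpow_two, ha, one_zpow]
  · right
    change a ^ (2 * k + 1) = a
    rw [zpow_add, zpow_mul, zpow_two, ha, one_zpow, one_mul, zpow_one]

theorem card_K4 : Nat.card ↥K4 = 4 := by
  rw [K4_eq, Count.card_sup_of_comm, card_z, card_tt]
  · rintro _ ⟨i, rfl⟩ _ ⟨j, rfl⟩
    exact (((show Commute (el .z) tt from z_tt).zpow_left i).zpow_right j).eq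
  · rw [eq_bot_iff]
    rintro x ⟨h1, h2⟩
    rcases mem_zp_two (el_sq .z) h1 with h3 | h3
    · exact h3
    · rcases mem_zp_two tt_sq h2 with h4 | h4
      · exact h4
      · exact absurd (h3.symm.trans h4) z_ne_tt

theorem two_ne_11 : ¬ (2 : ZMod 11) = 0 := by decide

theorem y11_pow_K4 (i : ℤ) (h : elw y11 ^ i ∈ K4) : elw y11 ^ i = 1 := by
  have h2 := K4_sq h
  have h4 : elw y11 ^ (i * 2) = elw y11 ^ (0 : ℤ) := by
    rw [zpow_mul, zpow_zero]
    exact_mod_cast h2
  rw [Cfsg.Agent.H838.Norm.zpow_eq_iff (by norm_num : Nat.Prime 11) pow11 y11_ne] at h4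
  push_cast at h4
  have : Fact (Nat.Prime 11) := ⟨by norm_num⟩
  have h5 : (i : ZMod 11) = 0 := by
    rcases mul_eq_zero.1 h4 with h5 | h5
    · exact h5
    · exact absurd h5 two_ne_11
  rw [← zpow_zero (elw y11)]
  exact zi (by rw [h5, Int.cast_zero])

/-- `X = ⟨y11⟩` -/
noncomputable abbrev X11 : Subgroup Fi23 := zpowers (elw y11)

theorem card_X11 : Nat.card ↥X11 = 11 := by
  have : Fact (Nat.Prime 11) := ⟨by norm_num⟩
  rw [Nat.card_zpowers, orderOf_eq_prime pow11 y11_ne]

theorem mem_cz {w : Fi23} : w ∈ centralizer ({el .z} : Set Fi23) ↔ rho w 0 = 0 := by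
  rw [mem_centralizer_singleton_iff]
  exact ((fix_pt_iff w .z)).symm

theorem C0_eq : centralizer (X11 : Set Fi23) ⊓ centralizer ({el .z} : Set Fi23) = X11 ⊔ K4 := by
  apply le_antisymm
  · rintro w ⟨h1, h2⟩
    obtain ⟨i, x, hx, rfl⟩ := cent11 (mem_cent_zpowers.1 h1) (mem_cz.1 h2)
    exact mul_mem (mem_sup_left ⟨i, rfl⟩) (mem_sup_right hx)
  · rw [sup_le_iff]
    constructor
    · rintro _ ⟨i, rfl⟩
      refine ⟨mem_cent_zpowers.2 ((Commute.refl _).zpow_left i).eq, ?_⟩
      exact mem_centralizer_singleton_iff.2 ((show Commute (elw y11) (el .z) from y11_z).zpow_left i).eq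
    · intro x hx
      refine ⟨mem_cent_zpowers.2 (K4_comm_y hx).symm, ?_⟩
      exact mem_centralizer_singleton_iff.2 (K4_comm (g := el .z) rfl z_tt hx).symm

theorem card_C0 : Nat.card ↥(centralizer (X11 : Set Fi23) ⊓ centralizer ({el .z} : Set Fi23) : Subgroup Fi23) = 44 := by
  rw [C0_eq, Count.card_sup_of_comm, card_X11, card_K4]
  · rintro _ ⟨i, rfl⟩ x hx
    exact ((show Commute (elw y11) x from K4_comm_y hx).zpow_left i).eq
  · rw [eq_bot_iff]
    rintro _ ⟨⟨i, rfl⟩, hx⟩
    exact y11_pow_K4 i hx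

/-- elements of the normalizer permute the two points -/
theorem norm_fix {w : Fi23} (hw : w ∈ normalizer (X11 : Set Fi23)) {p : ℕ} (hp : p = 0 ∨ p = 18119) :
    rho w p = 0 ∨ rho w p = 18119 := by
  have h1 := inv_mem hw
  rw [mem_normalizer_iff] at h1
  obtain ⟨k, hk⟩ := (h1 (elw y11)).1 (mem_zpowers _)
  have hk' : elw y11 ^ k = w⁻¹ * elw y11 * w := by
    have : elw y11 ^ k = w⁻¹ * elw y11 * w⁻¹⁻¹ := hk
    rwa [inv_inv] at this
  have h2 : rho (elw y11) p = p := y11_fix (by rcases hp with rfl | rfl <;> simp)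
  have h3 : rho (elw y11 ^ k) p = p := by
    rw [map_zpow]
    exact Equiv.Perm.zpow_apply_eq_self_of_apply_eq_self h2 k
  have h4 : rho (elw y11) (rho w p) = rho w p := by
    have h5 : elw y11 * w = w * elw y11 ^ k := by rw [hk']; group
    rw [← Equiv.Perm.mul_apply, ← map_mul, h5, map_mul, Equiv.Perm.mul_apply, h3]
  have hp' : p < 31671 := by rcases hp with rfl | rfl <;> norm_num
  have h6 := (pchk_mem fix11 (rho w p)).1 ⟨act_lt w hp', by
    rw [pat_cons]
    exact ⟨⟨fun h => absurd h4 h, fun h => absurd h Bool.false_ne_true⟩, fun c hc => absurd hc (by simp)⟩⟩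
  simpa using h6

theorem t11_mem : elw t11 ∈ normalizer (X11 : Set Fi23) := by
  have h1 : ∀ i : ℤ, elw t11 * elw y11 ^ i * (elw t11)⁻¹ = elw y11 ^ (-i) := by
    intro i
    rw [← conj_zpow, t11_conj, inv_zpow, zpow_neg]
  have h2 : ∀ i : ℤ, (elw t11)⁻¹ * elw y11 ^ i * elw t11 = elw y11 ^ (-i) := by
    intro i
    have h3 := h1 (-i)
    rw [neg_neg] at h3
    calc (elw t11)⁻¹ * elw y11 ^ i * elw t11 = (elw t11)⁻¹ * (elw t11 * elw y11 ^ (-i) * (elw t11)⁻¹) * elw t11 := by
          rw [h3]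
      _ = elw y11 ^ (-i) := by group
  rw [mem_normalizer_iff]
  intro h
  constructor
  · rintro ⟨k, rfl⟩
    exact ⟨-k, (h1 k).symm⟩
  · rintro ⟨k, hk⟩
    have hk' : elw y11 ^ k = elw t11 * h * (elw t11)⁻¹ := hk
    have h3 : h = (elw t11)⁻¹ * elw y11 ^ k * elw t11 := by rw [hk']; group
    rw [h3, h2]
    exact ⟨_, rfl⟩

theorem t11_0 : rho (elw t11) 0 = 18119 := by
  rw [← ptw_eq]; exact Nat.eq_of_beq_eq_true p_t11

/-- a subgroup permuting the two points and not fixing them -/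
theorem index_two_pts {A : Subgroup Fi23} (hA : ∀ w ∈ A, ∀ p, p = 0 ∨ p = 18119 → rho w p = 0 ∨ rho w p = 18119)
    {a : Fi23} (ha : a ∈ A) (h0 : rho a 0 = 18119) :
    ((A ⊓ centralizer ({el .z} : Set Fi23)).subgroupOf A).index = 2 := by
  apply Count.index_two_of ha
  intro b hb
  rw [mem_inf, mem_inf, mem_cz, mem_cz, map_mul, Equiv.Perm.mul_apply, h0]
  constructor
  · rintro ⟨-, h1⟩ ⟨-, h2⟩
    exact absurd ((rho b).injective (h1.trans h2.symm)) (by norm_num)
  · intro h
    refine ⟨mul_mem hb ha, ?_⟩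
    have h1 := hA b hb 0 (Or.inl rfl)
    have h2 := hA b hb 18119 (Or.inr rfl)
    have h3 : rho b 0 = 18119 := by
      rcases h1 with h1 | h1
      · exact absurd ⟨hb, h1⟩ h
      · exact h1
    rcases h2 with h2 | h2
    · exact h2
    · exact absurd ((rho b).injective (h2.trans h3.symm)) (by norm_num)

/-- **the normalizer of `⟨y11⟩` has order 440** -/
theorem card_N11 : Nat.card ↥(normalizer (X11 : Set Fi23)) = 440 := by
  have hC : Nat.card ↥(centralizer (X11 : Set Fi23)) = 44 ∨ Nat.card ↥(centralizer (X11 : Set Fi23)) = 88 := by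
    by_cases h : ∃ w ∈ centralizer (X11 : Set Fi23), rho w 0 = 18119
    · right
      obtain ⟨w, hw, hw0⟩ := h
      have h1 := index_two_pts (A := centralizer (X11 : Set Fi23))
        (fun w hw p hp => norm_fix (centralizer_le_normalizer _ hw) hp) hw hw0
      rw [Count.card_of_index_two inf_le_left h1, card_C0]
    · left
      have h2 : centralizer (X11 : Set Fi23) ⊓ centralizer ({el .z} : Set Fi23) = centralizer (X11 : Set Fi23) := by
        rw [inf_eq_left]
        intro w hw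
        rw [mem_cz]
        rcases norm_fix (centralizer_le_normalizer _ hw) (Or.inl rfl) with h1 | h1
        · exact h1
        · exact absurd ⟨w, hw, h1⟩ h
      rw [← card_C0, h2]
  rcases hC with hC | hC
  · obtain ⟨e, n, he, k1, k2, k3, -⟩ := Count.card_normalizer' (p := 11) (c := 44) (by norm_num) card_X11
      (by rw [card_G]; norm_num) hC
    rw [k1]
    rw [card_G] at k3
    have k4 : n % 11 = 1 := k2
    have k5 : e ≤ 10 := Nat.le_of_dvd (by norm_num) he
    have k6 : e ≠ 0 := by rintro rfl; norm_num at k3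
    interval_cases e <;> omega
  · obtain ⟨e, n, he, k1, k2, k3, -⟩ := Count.card_normalizer' (p := 11) (c := 88) (by norm_num) card_X11
      (by rw [card_G]; norm_num) hC
    rw [k1]
    rw [card_G] at k3
    have k4 : n % 11 = 1 := k2
    have k5 : e ≤ 10 := Nat.le_of_dvd (by norm_num) he
    have k6 : e ≠ 0 := by rintro rfl; norm_num at k3
    interval_cases e <;> omega

theorem index_N11 : ((normalizer (X11 : Set Fi23) ⊓ centralizer ({el .z} : Set Fi23)).subgroupOf
    (normalizer (X11 : Set Fi23))).index = 2 :=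
  index_two_pts (fun _ hw _ hp => norm_fix hw hp) t11_mem t11_0

theorem card_N0 : Nat.card ↥(normalizer (X11 : Set Fi23) ⊓ centralizer ({el .z} : Set Fi23) : Subgroup Fi23) = 220 := by
  have h := Count.card_of_index_two (inf_le_left (a := normalizer (X11 : Set Fi23))
    (b := centralizer ({el .z} : Set Fi23))) index_N11
  rw [card_N11] at h
  omega

theorem four_eleven : ∀ j < 5, ((4 : ℕ) : ZMod 11) ^ j = 1 → j = 0 := by decide

/-- the structure of S5495 -/
def Str11 {G : Type*} [Group G] (D : Set G) (X : Subgroup G) : Prop :=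
  ∃ d b : G, d ∈ D ∧ b ∈ D ∧ d ≠ b ∧ (D ∩ (Subgroup.centralizer ((X : Subgroup G) : Set G) : Set G)) = {d, b} ∧
    ∃ F : Subgroup G, Nat.card ↥F = 55 ∧ X ≤ F ∧ F ⊓ Subgroup.centralizer ((X : Subgroup G) : Set G) = X ∧
      F ⊓ Subgroup.closure ({d, b} : Set G) = ⊥ ∧
      (∀ x ∈ F, ∀ y ∈ Subgroup.closure ({d, b} : Set G), x * y = y * x) ∧
      F ⊔ Subgroup.closure ({d, b} : Set G) =
        (Subgroup.normalizer ((X : Subgroup G) : Set G) ⊓ Subgroup.centralizer ({d} : Set G)) ∧
      ((Subgroup.normalizer ((X : Subgroup G) : Set G) ⊓ Subgroup.centralizer ({d} : Set G)).subgroupOf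
        (Subgroup.normalizer ((X : Subgroup G) : Set G))).index = 2

theorem Str11.map {G H : Type*} [Group G] [Group H] (e : G ≃* H) {D : Set G} {D' : Set H} (hD : e '' D = D')
    {X : Subgroup G} (h : Str11 D X) : Str11 D' (X.map e.toMonoidHom) := by
  obtain ⟨d, b, hd, hb, hdb, hDX, F, h1, h2, h3, h4, h5, h6, h7⟩ := h
  have hC : centralizer ((X.map e.toMonoidHom : Subgroup H) : Set H) =
      (centralizer (X : Set G)).map e.toMonoidHom :=
    (Cfsg.Agent.H838.Transport.map_centralizer e (X : Set G)).symm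
  have hK : closure ({e d, e b} : Set H) = (closure ({d, b} : Set G)).map e.toMonoidHom := by
    rw [MonoidHom.map_closure]
    congr 1
    change _ = e '' _
    rw [Set.image_pair]
  have hc1 : centralizer ({e d} : Set H) = (centralizer ({d} : Set G)).map e.toMonoidHom := by
    rw [Cfsg.Agent.H838.Transport.map_centralizer, Set.image_singleton]
  have hN : normalizer ((X.map e.toMonoidHom : Subgroup H) : Set H) ⊓ centralizer ({e d} : Set H) =
      (normalizer (X : Set G) ⊓ centralizer ({d} : Set G)).map e.toMonoidHom := by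
    rw [hc1, ← Cfsg.Agent.H838.Transport.map_normalizer, Cfsg.Agent.H838.Transport.map_inf']
  refine ⟨e d, e b, by rw [← hD]; exact ⟨d, hd, rfl⟩, by rw [← hD]; exact ⟨b, hb, rfl⟩,
    fun h => hdb (e.injective h), ?_, F.map e.toMonoidHom, ?_, map_mono h2, ?_, ?_, ?_, ?_, ?_⟩
  · rw [hC, ← hD]
    change e '' D ∩ e '' _ = _
    rw [← Set.image_inter e.injective, hDX, Set.image_pair]
  · rw [← h1]
    exact (Nat.card_congr (e.subgroupMap F).toEquiv).symm
  · rw [hC, ← Cfsg.Agent.H838.Transport.map_inf', h3]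
  · rw [hK, ← Cfsg.Agent.H838.Transport.map_inf', h4, Subgroup.map_bot]
  · rw [hK]
    rintro _ ⟨x, hx, rfl⟩ _ ⟨y, hy, rfl⟩
    change e x * e y = e y * e x
    rw [← map_mul, ← map_mul, h5 x hx y hy]
  · rw [hK, ← Subgroup.map_sup, h6, hN]
  · rw [hN, ← Cfsg.Agent.H838.Transport.map_normalizer]
    change (Subgroup.map e.toMonoidHom _).relIndex (Subgroup.map e.toMonoidHom _) = 2
    rw [relIndex_map_map_of_injective _ _ e.injective]
    exact h7

theorem Str11.map_all {G H : Type*} [Group G] [Group H] {k : ℕ} (e : G ≃* H) {D : Set G} {D' : Set H}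
    (hD : e '' D = D') (h : ∀ X : Subgroup G, Nat.card X = k → Str11 D X) (X : Subgroup H)
    (hX : Nat.card X = k) : Str11 D' X := by
  have h1 := (h (X.map e.symm.toMonoidHom)
    (by rw [← hX]; exact (Nat.card_congr (e.symm.subgroupMap X).toEquiv).symm)).map e hD
  rw [Subgroup.map_map] at h1
  have h2 : e.toMonoidHom.comp e.symm.toMonoidHom = MonoidHom.id H := by ext y; simp
  rwa [h2, Subgroup.map_id] at h1

theorem str_y11 : Str11 DD X11 := by
  obtain ⟨F, h1, h2, h3, h4, h5, h6, -, -⟩ := FrobGen.exists_frob (m := 5) (S := K4)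
    (by norm_num : Nat.Prime 11) (by norm_num) pow11 y11_ne ss_conj ss_pow four_eleven
    (fun x hx => (K4_comm_y hx).symm) (fun x hx => (K4_comm ss_z ss_tt hx).symm) y11_pow_K4
  have hFz : F ≤ centralizer ({el .z} : Set Fi23) := by
    intro x hx
    exact mem_centralizer_singleton_iff.2 (h5 x hx _ z_mem_K4)
  have hle : F ⊔ K4 ≤ normalizer (X11 : Set Fi23) ⊓ centralizer ({el .z} : Set Fi23) := by
    rw [sup_le_iff]
    refine ⟨le_inf h6 hFz, ?_⟩
    intro x hx
    refine ⟨centralizer_le_normalizer _ (mem_cent_zpowers.2 (K4_comm_y hx).symm), ?_⟩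
    exact mem_centralizer_singleton_iff.2 (K4_comm (g := el .z) rfl z_tt hx).symm
  refine ⟨el .z, tt, el_mem_DD .z, T_mem (by norm_num), z_ne_tt, ?_, F, h1, h2, h3, h4, h5, ?_, index_N11⟩
  · ext x
    rw [mem_DD_centralizer]
    constructor
    · rintro ⟨p, hp, h, rfl⟩
      have h7 := (pchk_mem fix11 p).1 ⟨hp, by
        rw [pat_cons]
        exact ⟨⟨fun h' => absurd h h', fun h' => absurd h' Bool.false_ne_true⟩, fun c hc => absurd hc (by simp)⟩⟩
      simp only [List.mem_cons, List.not_mem_nil, or_false] at h7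
      rcases h7 with rfl | rfl
      · left; exact T0
      · right; rfl
    · rintro (rfl | rfl)
      · exact ⟨0, by norm_num, y11_fix (by simp), T0.symm⟩
      · exact ⟨18119, by norm_num, y11_fix (by simp), rfl⟩
  · change F ⊔ K4 = _
    apply eq_of_le_of_card_ge hle
    rw [card_N0, Count.card_sup_of_comm h5 h4, h1, card_K4]

theorem conj_all11 (X Y : Subgroup Fi23) (hX : Nat.card X = 11) (hY : Nat.card Y = 11) :
    ∃ g : Fi23, X.map (MulAut.conj g).toMonoidHom = Y :=
  conj_all (by norm_num) pow11 y11_ne (fun _ h => conj_eleven h) X Y hX hY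

/-- **subgroups of order 11 of `Fi23`** -/
theorem eleven_main (X : Subgroup Fi23) (hX : Nat.card X = 11) : Str11 DD X := by
  obtain ⟨g, hg⟩ := conj_all11 X11 X card_X11 hX
  rw [← hg]
  apply str_y11.map (MulAut.conj g)
  ext y
  constructor
  · rintro ⟨x, hx, rfl⟩
    exact DD_conj g hx
  · intro hy
    refine ⟨g⁻¹ * y * g, ?_, ?_⟩
    · have := DD_conj g⁻¹ hy
      rwa [inv_inv] at this
    · rw [MulAut.conj_apply]; group

end Cfsg.Agent.H839.Fi23
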