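import Cfsg.Agent.H838.Norm
import Cfsg.Agent.H839.Count

/-!
# Normalizers of subgroups of prime order with `C(y) = ⟨y⟩ × S`, partial automizer (helper839)
-/

set_option autoImplicit false

namespace Cfsg.Agent.H839.FrobGen

open Subgroup Cfsg.Agent.H838.Norm

section

variable {G : Type*} [Group G]

theorem mem_cent {w y : G} : w ∈ centralizer ((zpowers y : Subgroup G) : Set G) ↔ w * y = y * w := by
  rw [mem_centralizer_iff]
  constructor
  · intro h
    exact (h y (mem_zpowers y)).symm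
  · rintro h _ ⟨i, rfl⟩
    exact ((show Commute w y from h).zpow_right i).eq.symm

/-- the subgroup `F = ⟨y, s⟩` of order `p m`, `s` of order `m` acting on `⟨y⟩` with order `m` and centralizing `S` -/
theorem exists_frob {p m : ℕ} (hp : p.Prime) (hm : 0 < m) {y s : G} {r : ℕ} {S : Subgroup G} (hy : y ^ p = 1)
    (hy1 : y ≠ 1) (hs : s * y * s⁻¹ = y ^ r) (hsm : s ^ m = 1)
    (hr : ∀ j < m, ((r : ℕ) : ZMod p) ^ j = 1 → j = 0)
    (hSy : ∀ x ∈ S, x * y = y * x) (hSs : ∀ x ∈ S, x * s = s * x) (hyS : ∀ i : ℤ, y ^ i ∈ S → y ^ i = 1) :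
    ∃ F : Subgroup G, Nat.card ↥F = p * m ∧ zpowers y ≤ F ∧
      F ⊓ centralizer ((zpowers y : Subgroup G) : Set G) = zpowers y ∧ F ⊓ S = ⊥ ∧
      (∀ x ∈ F, ∀ z ∈ S, x * z = z * x) ∧ F ≤ normalizer ((zpowers y : Subgroup G) : Set G) ∧
      (∀ x ∈ F, ∃ (i : ℤ) (j : ℕ), x = y ^ i * s ^ j) ∧ s ∈ F := by
  have := Fact.mk hp
  have hle : zpowers y ≤ frob hs hsm hm := by
    rw [zpowers_le]
    exact ⟨1, 0, by simp⟩
  have hsF : s ∈ frob hs hsm hm := ⟨0, 1, by simp⟩
  have red : ∀ j : ℕ, s ^ j = s ^ (j % m) := by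
    intro j
    conv_lhs => rw [← Nat.mod_add_div j m, pow_add, pow_mul, hsm, one_pow, mul_one]
  have hr0 : ((r : ℕ) : ZMod p) ≠ 0 := by
    intro h0
    rw [ZMod.natCast_eq_zero_iff] at h0
    obtain ⟨k, hk⟩ := h0
    rw [hk, pow_mul, hy, one_pow] at hs
    apply hy1
    calc y = s⁻¹ * (s * y * s⁻¹) * s := by group
      _ = 1 := by rw [hs]; group
  have hsj : ∀ j : ℕ, s ^ j * y = y * s ^ j → s ^ j = 1 := by
    intro j hj
    have hj' : s ^ (j % m) * y = y * s ^ (j % m) := by rw [← red]; exact hj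
    rw [red j]
    have h4 : (r : ZMod p) ^ (j % m) = 1 := by
      have h5 : s ^ (j % m) * y ^ (1 : ℤ) * (s ^ (j % m))⁻¹ = y ^ (1 : ℤ) := by
        rw [zpow_one, hj', mul_inv_cancel_right]
      rw [conj_pow_zpow hs, mul_one, zpow_eq_iff hp hy hy1] at h5
      push_cast at h5
      exact h5
    rw [hr _ (Nat.mod_lt _ hm) h4, pow_zero]
  have hFC : ∀ x ∈ frob hs hsm hm, x * y = y * x → x ∈ zpowers y := by
    rintro _ ⟨i, j, rfl⟩ hx
    have h3 : s ^ j * y = y * s ^ j := by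
      have h4 : y ^ i * (s ^ j * y) = y ^ i * (y * s ^ j) := by
        calc y ^ i * (s ^ j * y) = y ^ i * s ^ j * y := by group
          _ = y * (y ^ i * s ^ j) := hx
          _ = y ^ i * (y * s ^ j) := by group
      exact mul_left_cancel h4
    rw [hsj j h3, mul_one]
    exact ⟨i, rfl⟩
  have hFS : ∀ x ∈ frob hs hsm hm, ∀ z ∈ S, x * z = z * x := by
    rintro _ ⟨i, j, rfl⟩ z hz
    exact (((show Commute z y from hSy z hz).zpow_right i).mul_right
      ((show Commute z s from hSs z hz).pow_right j)).eq.symm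
  refine ⟨frob hs hsm hm, ?_, hle, ?_, ?_, hFS, ?_, fun x hx => hx, hsF⟩
  · -- the order
    have hbij : Function.Bijective (fun u : Fin p × Fin m =>
        (⟨y ^ (u.1 : ℤ) * s ^ (u.2 : ℕ), ⟨_, _, rfl⟩⟩ : ↥(frob hs hsm hm))) := by
      constructor
      · rintro ⟨i, j⟩ ⟨i', j'⟩ h
        have h3 : y ^ ((i : ℕ) : ℤ) * s ^ (j : ℕ) = y ^ ((i' : ℕ) : ℤ) * s ^ (j' : ℕ) := congrArg Subtype.val h
        have h4 : ∀ (a : ℤ) (b : ℕ), (y ^ a * s ^ b) * y ^ (1 : ℤ) * (y ^ a * s ^ b)⁻¹ = y ^ ((r : ℤ) ^ b * 1) := by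
          intro a b
          calc (y ^ a * s ^ b) * y ^ (1 : ℤ) * (y ^ a * s ^ b)⁻¹
              = y ^ a * (s ^ b * y ^ (1 : ℤ) * (s ^ b)⁻¹) * (y ^ a)⁻¹ := by group
            _ = y ^ a * y ^ ((r : ℤ) ^ b * 1) * (y ^ a)⁻¹ := by rw [conj_pow_zpow hs]
            _ = y ^ ((r : ℤ) ^ b * 1) := by group
        have h5 := h4 (i : ℕ) j
        rw [h3, h4, mul_one, mul_one, zpow_eq_iff hp hy hy1] at h5
        push_cast at h5
        have key : ∀ a b : ℕ, a < m → b < m → a ≤ b → (r : ZMod p) ^ a = (r : ZMod p) ^ b → a = b := by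
          intro a b ha hb hab h
          have h6 : (r : ZMod p) ^ (b - a) = 1 := by
            have h7 : (r : ZMod p) ^ a * (r : ZMod p) ^ (b - a) = (r : ZMod p) ^ a * 1 := by
              rw [← pow_add, Nat.add_sub_cancel' hab, mul_one, h]
            exact mul_left_cancel₀ (pow_ne_zero _ hr0) h7
          have h8 := hr (b - a) (by omega) h6
          omega
        have hjj : (j' : ℕ) = (j : ℕ) := by
          rcases le_total (j' : ℕ) (j : ℕ) with h6 | h6
          · exact key _ _ j'.2 j.2 h6 h5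
          · exact (key _ _ j.2 j'.2 h6 h5.symm).symm
        rw [hjj] at h3
        have h6 := mul_right_cancel h3
        rw [zpow_eq_iff hp hy hy1] at h6
        have h7 : ((i : ℕ) : ZMod p) = ((i' : ℕ) : ZMod p) := by exact_mod_cast h6
        have h8 := congrArg ZMod.val h7
        rw [ZMod.val_natCast_of_lt i.2, ZMod.val_natCast_of_lt i'.2] at h8
        exact Prod.ext (Fin.ext h8) (Fin.ext hjj.symm)
      · rintro ⟨_, i, j, rfl⟩
        have hpz : (0 : ℤ) < p := by exact_mod_cast hp.pos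
        refine ⟨(⟨(i % p).toNat, ?_⟩, ⟨j % m, Nat.mod_lt _ hm⟩), Subtype.ext ?_⟩
        · have := Int.emod_lt_of_pos i hpz
          have := Int.emod_nonneg i hpz.ne'
          omega
        · change y ^ (((i % p).toNat : ℕ) : ℤ) * s ^ (j % m) = y ^ i * s ^ j
          rw [← red, Int.toNat_of_nonneg (Int.emod_nonneg i hpz.ne')]
          congr 1
          rw [zpow_eq_iff hp hy hy1]
          exact ZMod.intCast_mod i p
    rw [← Nat.card_congr (Equiv.ofBijective _ hbij), Nat.card_prod, Nat.card_fin, Nat.card_fin]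
  · apply le_antisymm
    · rintro x ⟨hx, hx'⟩
      exact hFC x hx (mem_cent.1 hx')
    · intro x hx
      refine ⟨hle hx, mem_cent.2 ?_⟩
      obtain ⟨i, rfl⟩ := hx
      exact ((Commute.refl y).zpow_left i).eq
  · rw [eq_bot_iff]
    rintro x ⟨hx, hx'⟩
    obtain ⟨i, rfl⟩ := hFC x hx (hSy x hx')
    exact hyS i hx'
  · rintro _ ⟨i, j, rfl⟩
    apply mul_mem
    · exact zpow_mem (le_normalizer (mem_zpowers y)) i
    · apply pow_mem
      rw [mem_normalizer_iff]
      intro h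
      constructor
      · rintro ⟨k, rfl⟩
        exact ⟨(r : ℤ) * k, (conj_zpow_right hs k).symm⟩
      · rintro ⟨k, hk⟩
        have hk' : y ^ k = s * h * s⁻¹ := hk
        have h3 : h = (s ^ (m - 1)) * y ^ k * (s ^ (m - 1))⁻¹ := by
          rw [hk']
          have h4 : s ^ (m - 1) * s = 1 := by
            rw [← pow_succ, Nat.sub_add_cancel (by omega), hsm]
          calc h = (s ^ (m - 1) * s) * h * (s ^ (m - 1) * s)⁻¹ := by rw [h4]; group
            _ = _ := by group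
        rw [h3, conj_pow_zpow hs]
        exact ⟨_, rfl⟩

/-- an element acting without fixed points on `⟨y⟩` and some power of which lies in `⟨y⟩` -/
theorem pow_eq_one_of_mem {p m : ℕ} (hp : p.Prime) {y s : G} {r : ℕ} (hy : y ^ p = 1) (hy1 : y ≠ 1)
    (hs : s * y * s⁻¹ = y ^ r) (hr : ((r : ℕ) : ZMod p) ≠ 1) (h : s ^ m ∈ zpowers y) : s ^ m = 1 := by
  have := Fact.mk hp
  obtain ⟨k, hk⟩ := h
  have hk' : y ^ k = s ^ m := hk
  have h1 : s * y ^ k * s⁻¹ = y ^ k := by
    rw [hk', ← pow_succ', pow_succ, mul_inv_cancel_right]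
  rw [conj_zpow_right hs, zpow_eq_iff hp hy hy1] at h1
  push_cast at h1
  have h2 : ((r : ZMod p) - 1) * (k : ZMod p) = 0 := by rw [sub_mul, one_mul, h1, sub_self]
  have h3 : (k : ZMod p) = 0 := by
    rcases mul_eq_zero.1 h2 with h3 | h3
    · exact absurd (sub_eq_zero.1 h3) hr
    · exact h3
  rw [← hk', ← zpow_zero y, zpow_eq_iff hp hy hy1, h3, Int.cast_zero]

/-- the centralizer as a product -/
theorem cent_eq_sup {y : G} {S : Subgroup G} (hSy : ∀ x ∈ S, x * y = y * x)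
    (hC : ∀ w, w * y = y * w → ∃ i : ℤ, ∃ x ∈ S, w = y ^ i * x) :
    centralizer ((zpowers y : Subgroup G) : Set G) = zpowers y ⊔ S := by
  apply le_antisymm
  · intro w hw
    obtain ⟨i, x, hx, rfl⟩ := hC w (mem_cent.1 hw)
    exact mul_mem (mem_sup_left ⟨i, rfl⟩) (mem_sup_right hx)
  · rw [sup_le_iff]
    constructor
    · rintro _ ⟨i, rfl⟩
      exact mem_cent.2 ((Commute.refl y).zpow_left i).eq
    · intro x hx
      exact mem_cent.2 (hSy x hx)

theorem card_cent {p : ℕ} (hp : p.Prime) {y : G} {S : Subgroup G} (hy : y ^ p = 1) (hy1 : y ≠ 1)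
    (hSy : ∀ x ∈ S, x * y = y * x)
    (hC : ∀ w, w * y = y * w → ∃ i : ℤ, ∃ x ∈ S, w = y ^ i * x) (hyS : ∀ i : ℤ, y ^ i ∈ S → y ^ i = 1) :
    Nat.card ↥(centralizer ((zpowers y : Subgroup G) : Set G)) = p * Nat.card ↥S := by
  have := Fact.mk hp
  rw [cent_eq_sup hSy hC, Count.card_sup_of_comm, Nat.card_zpowers, orderOf_eq_prime hy hy1]
  · rintro _ ⟨i, rfl⟩ x hx
    exact ((show Commute x y from hSy x hx).zpow_right i).eq.symm
  · rw [eq_bot_iff]
    rintro _ ⟨⟨i, rfl⟩, hx⟩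
    exact hyS i hx

end

end Cfsg.Agent.H839.FrobGen
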