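import Cfsg.Agent.H839.Walk
import Cfsg.Agent.H839.FrobGen
import Cfsg.Agent.S0444

/-!
# Subgroups of order 13 of `Fi23`: `C(y13) = ⟨y13⟩ × S3`, `N(⟨y13⟩) = F78 × S3` (helper839)
-/

set_option autoImplicit false
set_option linter.constructorNameAsVariable false
set_option maxRecDepth 100000

namespace Cfsg.Agent.H839.Fi23

open Subgroup Cfsg Cfsg.Agent.Lib.PermNet Cfsg.Agent.Fischer.Fi23Hom Cfsg.Agent.LThreeFi23
open Cfsg.Agent.H838.Fi23 (SL el_mem elw_mem SL_comm SL_fix stepChk stepChk_spec chain_step DD T_mem el_mem_DD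
  DD_conj mem_DD_centralizer)
open Cfsg.Spor (Fi23)

/-- the letters of `S3` -/
def L3 : List Lt := [.z, .j]

def tz : List (ℕ × List Lt) := [(0, []), (1, [.j]), (8006, [.z, .j])]
def tj : List (ℕ × List Lt) := [(1, [.z]), (8006, [])]

def ms0 : List (List Lt × Bool) := [(y13, false)]
def ms1 : List (List Lt × Bool) := [(y13, false), ([.z], true)]

theorem qz : pchk ms0 (tz.map Prod.fst ++ []) = true := by decide +kernel
theorem qj : pchk ms1 (tj.map Prod.fst ++ []) = true := by decide +kernel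

theorem uz : stepChk L3 0 [] tz = true := by decide +kernel
theorem uj : stepChk L3 8006 [0] tj = true := by decide +kernel

theorem S3_comm_y13 {x : Fi23} (hx : x ∈ SL L3) : elw y13 * x = x * elw y13 :=
  SL_comm_word (by decide +kernel) hx

theorem red3 {w : Fi23} (hy : w * elw y13 = elw y13 * w) :
    ∃ s ∈ SL L3, (s⁻¹ * w) * elw y13 = elw y13 * (s⁻¹ * w) ∧ ∀ l ∈ L3, (s⁻¹ * w) * el l = el l * (s⁻¹ * w) := by
  obtain ⟨s1, h1, hy1, f1⟩ := step_gen (fun _ h => S3_comm_y13 h) qz uz (by decide) (by simp) (by simp) hy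
    (by intro c hc; fin_cases hc; exact Or.inl rfl) (by simp)
  obtain ⟨s2, h2, hy2, f2⟩ := step_gen (fun _ h => S3_comm_y13 h) qj uj (by decide) (by simp) (by simp) hy1
    (by
      intro c hc
      fin_cases hc
      · exact Or.inl rfl
      · exact Or.inr ⟨.z, rfl, by decide⟩) f1
  have e : s2⁻¹ * (s1⁻¹ * w) = (s1 * s2)⁻¹ * w := by group
  rw [e] at hy2 f2
  refine ⟨_, mul_mem h1 h2, hy2, ?_⟩
  intro l hl
  apply (fix_pt_iff _ l).1
  apply f2
  fin_cases hl <;> decide

/-- **`C(y13) = ⟨y13⟩ × S3`** -/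
theorem cent13 {w : Fi23} (hy : w * elw y13 = elw y13 * w) : ∃ i : ℤ, ∃ x ∈ SL L3, w = elw y13 ^ i * x := by
  obtain ⟨s, hs, h1, h2⟩ := red3 hy
  obtain ⟨i, hi⟩ := cent13core h1 (h2 .z (by decide)) (h2 .j (by decide))
  refine ⟨i, s, hs, ?_⟩
  have hi' : elw y13 ^ i = s⁻¹ * w := hi
  have h3 : w = s * elw y13 ^ i := by rw [hi', mul_inv_cancel_left]
  rw [h3]
  exact (((show Commute (elw y13) s from S3_comm_y13 hs).zpow_left i).eq).symm

/-- the points of the letters `a` and of `y13 a` -/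
theorem y13_a : Nat.beq (ptw y13 11589) 11589 = false := by decide +kernel

theorem y13_pow_S3 (i : ℤ) (h : elw y13 ^ i ∈ SL L3) : elw y13 ^ i = 1 := by
  have h0 : rho (elw y13 ^ i) 11589 = 11589 := by
    refine SL_fix ?_ h
    intro l hl
    rw [show (11589 : ℕ) = pt .a from rfl, fix_pt_iff]
    rw [← elw_one, ← elw_one]
    fin_cases hl <;> exact comm_words _ _ (by decide +kernel)
  by_contra hne
  have h1 : el .a * elw y13 ^ i = elw y13 ^ i * el .a := (comm_a h0).symm
  have h2 := comm_of_conj_zpow (p := 13) (by norm_num) pow13 hne h1 (g := 1) (i := i) (by group)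
  rw [one_mul, inv_one, mul_one] at h2
  have h3 := (fix_pt_iff (elw y13) .a).2 h2.symm
  have h4 := y13_a
  rw [ptw_eq, show rho (elw y13) 11589 = 11589 from h3, Nat.beq_refl] at h4
  exact Bool.noConfusion h4

/-- an element of order 6 centralizing `S3` and normalizing `⟨y13⟩` -/
def q13 : List Lt := [.d, .h, .e, .f, .c, .d, .e, .a, .b, .c, .d, .h, .i, .f, .e, .b, .c, .d, .h, .a, .b, .c, .d, .e, .f, .d, .e, .b, .c, .d, .h, .i, .e, .b, .c, .d, .h, .a, .b, .c, .d, .e, .h, .i, .d, .h, .c, .d, .h, .a, .i]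

theorem c_q13 : agree (q13 ++ y13) (y13 ++ (y13 ++ (y13 ++ (y13 ++ q13))))
    [11589, 8004, 8003, 8000, 8002, 8005, 7999, 8007, 8006, 0] = true := by
  decide +kernel

theorem q13_conj : elw q13 * elw y13 * (elw q13)⁻¹ = elw y13 ^ 4 := by
  have h := elw_eq_of_agree c_q13
  simp only [elw_append] at h
  rw [h]
  simp only [pow_succ, pow_zero, one_mul, mul_assoc, mul_inv_cancel, mul_one]

theorem q13_pow : elw q13 ^ 6 = 1 := by
  have hz : Commute (elw q13) (el .z) := by
    rw [← elw_one]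
    exact comm_words _ _ (by decide +kernel)
  have hj : Commute (elw q13) (el .j) := by
    rw [← elw_one]
    exact comm_words _ _ (by decide +kernel)
  refine FrobGen.pow_eq_one_of_mem (by norm_num : Nat.Prime 13) pow13 y13_ne q13_conj (by decide) ?_
  apply cent13core
  · have h1 := Cfsg.Agent.H838.Norm.conj_pow_zpow q13_conj 6 1
    rw [zpow_one, mul_one] at h1
    have h2 : elw y13 ^ ((((4 : ℕ) : ℤ)) ^ 6) = elw y13 := by
      have h3 : elw y13 ^ ((((4 : ℕ) : ℤ)) ^ 6) = elw y13 ^ (1 : ℤ) := by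
        rw [Cfsg.Agent.H838.Norm.zpow_eq_iff (by norm_num : Nat.Prime 13) pow13 y13_ne]
        decide
      rw [h3, zpow_one]
    rw [h2] at h1
    calc elw q13 ^ 6 * elw y13 = elw q13 ^ 6 * elw y13 * (elw q13 ^ 6)⁻¹ * elw q13 ^ 6 := by group
      _ = elw y13 * elw q13 ^ 6 := by rw [h1]
  · exact (hz.pow_left 6).eq
  · exact (hj.pow_left 6).eq

theorem S3_comm_q13 {x : Fi23} (hx : x ∈ SL L3) : x * elw q13 = elw q13 * x :=
  (SL_comm_word (by decide +kernel) hx).symm

theorem four_thirteen : ∀ j < 6, ((4 : ℕ) : ZMod 13) ^ j = 1 → j = 0 := by decide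

theorem closure_y13 :
    closure (DD ∩ (centralizer ((zpowers (elw y13) : Subgroup Fi23) : Set Fi23) : Set Fi23)) = SL L3 := by
  refine closure_gen (l0 := .z) (dat := tz) (by decide) ?_ uz (fun _ h => S3_comm_y13 h)
  have := qz
  rwa [List.append_nil] at this

theorem T_ne_one {p : ℕ} (hp : p < 31671) : T p ≠ 1 := by
  intro h
  obtain ⟨g, rfl⟩ := exists_rep hp
  rw [T_act g (p := 0) (by norm_num), T0] at h
  have h2 : el .z = 1 := by
    calc el .z = g⁻¹ * (g * el .z * g⁻¹) * g := by group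
      _ = 1 := by rw [h]; group
  have h3 : el .z = el .j := by
    have h4 : T 8006 = 1 := by
      obtain ⟨k, hk⟩ := exists_rep (p := 8006) (by norm_num)
      rw [← hk, T_act k (p := 0) (by norm_num), T0, h2, mul_one, mul_inv_cancel]
    rw [← T8006, h4, h2]
  exact absurd (Cfsg.Agent.H838.Fi23.el_inj h3) (by decide)

/-- the transpositions form a set of 3-transpositions -/
theorem DD_three : Cfsg.IsThreeTranspositionSet DD := by
  refine ⟨?_, ?_⟩
  · rintro _ ⟨p, hp, rfl⟩
    have : Fact (Nat.Prime 2) := ⟨Nat.prime_two⟩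
    exact orderOf_eq_prime (by rw [pow_two, T_sq hp]) (T_ne_one hp)
  · rintro _ ⟨p, hp, rfl⟩ _ ⟨q, hq, rfl⟩
    by_cases h : Com p q
    · left
      rw [(show Commute (T p) (T q) from (com_iff hq).1 h).mul_pow, pow_two, pow_two, T_sq hp, T_sq hq, one_mul]
    · right
      exact three_of_braid (T_sq hp) (T_sq hq) (braid hp hq h)

/-- the subgroup `S3` -/
theorem S3_equiv : Nonempty (↥(SL L3) ≃* Equiv.Perm (Fin 3)) := by
  have h := Cfsg.Agent.S0444.result DD_three (el_mem_DD .z) (el_mem_DD .j) (by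
    intro h
    have h1 := (fix_pt_iff (el .z) .j).2 h
    have h2 := m_0
    rw [ptw_eq, elw_one, show rho (el .z) 8006 = 8006 from h1, Nat.beq_refl] at h2
    exact Bool.noConfusion h2)
  have h2 : SL L3 = closure ({el .z, el .j} : Set Fi23) := by
    unfold SL
    congr 1
    ext x
    simp only [L3, List.mem_cons, List.not_mem_nil, or_false, exists_eq_or_imp, exists_eq_left,
      Set.mem_ofPred_eq, Set.mem_insert_iff, Set.mem_singleton_iff]
  rw [h2]
  exact h

theorem card_S3 : Nat.card ↥(SL L3) = 6 := by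
  obtain ⟨f⟩ := S3_equiv
  rw [Nat.card_congr f.toEquiv, Nat.card_eq_fintype_card, Fintype.card_perm, Fintype.card_fin]
  rfl

theorem card_y13 : Nat.card ↥(zpowers (elw y13)) = 13 := by
  have : Fact (Nat.Prime 13) := ⟨by norm_num⟩
  rw [Nat.card_zpowers, orderOf_eq_prime pow13 y13_ne]

open Cfsg.Agent.H838.Transport in
theorem normStr_y13 : NormStr 78 3 DD (zpowers (elw y13)) := by
  have hSy : ∀ x ∈ SL L3, x * elw y13 = elw y13 * x := fun x hx => (S3_comm_y13 hx).symm
  obtain ⟨F, h1, h2, h3, h4, h5, h6, -, -⟩ := FrobGen.exists_frob (m := 6) (S := SL L3)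
    (by norm_num : Nat.Prime 13) (by norm_num) pow13 y13_ne q13_conj q13_pow four_thirteen hSy
    (fun x hx => S3_comm_q13 hx) y13_pow_S3
  have hcard := FrobGen.card_cent (by norm_num : Nat.Prime 13) pow13 y13_ne hSy (fun w hw => cent13 hw) y13_pow_S3
  rw [card_S3] at hcard
  have hN : Nat.card ↥(normalizer ((zpowers (elw y13) : Subgroup Fi23) : Set Fi23)) = 468 := by
    obtain ⟨e, n, he, k1, k2, k3⟩ := Count.card_normalizer (p := 13) (c := 78) (by norm_num) card_y13
      (by rw [card_G]; norm_num) hcard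
    rw [k1]
    rw [card_G] at k3
    have k4 : n % 13 = 1 := k2
    have k5 : e ≤ 12 := Nat.le_of_dvd (by norm_num) he
    have k6 : e ≠ 0 := by rintro rfl; norm_num at k3
    interval_cases e <;> omega
  have hle : F ⊔ SL L3 ≤ normalizer ((zpowers (elw y13) : Subgroup Fi23) : Set Fi23) := by
    rw [sup_le_iff]
    refine ⟨h6, ?_⟩
    intro x hx
    exact centralizer_le_normalizer _ (mem_cent_zpowers.2 (hSy x hx))
  have heq : F ⊔ SL L3 = normalizer ((zpowers (elw y13) : Subgroup Fi23) : Set Fi23) := by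
    apply eq_of_le_of_card_ge hle
    rw [Count.card_sup_of_comm h5 h4, h1, card_S3, hN]
  refine ⟨F, h1, h2, h3, ?_, ?_, ?_, ?_⟩
  · rw [closure_y13, h4]
  · rw [closure_y13]; exact h5
  · rw [closure_y13, heq]
  · rw [closure_y13]
    exact S3_equiv

theorem conj_all13 (X Y : Subgroup Fi23) (hX : Nat.card X = 13) (hY : Nat.card Y = 13) :
    ∃ g : Fi23, X.map (MulAut.conj g).toMonoidHom = Y :=
  conj_all (by norm_num) pow13 y13_ne (fun _ h => conj_thirteen h) X Y hX hY

open Cfsg.Agent.H838.Transport in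
/-- **subgroups of order 13 of `Fi23`** -/
theorem thirteen_main (X : Subgroup Fi23) (hX : Nat.card X = 13) : NormStr 78 3 DD X := by
  obtain ⟨g, hg⟩ := conj_all13 (zpowers (elw y13)) X card_y13 hX
  rw [← hg]
  exact normStr_y13.conj (fun g x hx => DD_conj g hx) g

end Cfsg.Agent.H839.Fi23
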