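import Cfsg.Agent.H839.Count

/-!
# Orders of normalizers: powers of elements of the normalizer; stabilizers of index two (helper839)
-/

set_option autoImplicit false

namespace Cfsg.Agent.H839.Count

open Subgroup

section

variable {G : Type*} [Group G]

/-- as `card_normalizer`, with the automizer -/
theorem card_normalizer' [Finite G] {p c : ℕ} (hp : p.Prime) {X : Subgroup G} (hX : Nat.card X = p)
    (hG : ¬ p ^ 2 ∣ Nat.card G) (hC : Nat.card ↥(centralizer (X : Set G)) = c) :
    ∃ e n : ℕ, e ∣ p - 1 ∧ Nat.card ↥(normalizer (X : Set G)) = c * e ∧ n ≡ 1 [MOD p] ∧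
      n * (c * e) = Nat.card G ∧ ∀ g ∈ normalizer (X : Set G), g ^ e ∈ centralizer (X : Set G) := by
  obtain ⟨e, n, h1, h2, h3, h4⟩ := card_normalizer hp hX hG hC
  refine ⟨e, n, h1, h2, h3, h4, ?_⟩
  intro g hg
  have hc0 : 0 < c := by rw [← hC]; exact Nat.card_pos
  have h5 : (centralizer (X : Set G)).relIndex (normalizer (X : Set G)) = e := by
    have h6 := relIndex_mul_card' (centralizer_le_normalizer (X : Set G))
    rw [hC, h2, mul_comm] at h6
    exact Nat.eq_of_mul_eq_mul_left hc0 h6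
  have hn : ((centralizer (X : Set G)).subgroupOf (normalizer (X : Set G))).Normal := by
    rw [← normalizerMonoidHom_ker]
    infer_instance
  have h7 := pow_index_mem ((centralizer (X : Set G)).subgroupOf (normalizer (X : Set G))) ⟨g, hg⟩
  have h8 : ((centralizer (X : Set G)).subgroupOf (normalizer (X : Set G))).index = e := h5
  rw [h8, mem_subgroupOf] at h7
  exact h7

theorem index_two_of {A B : Subgroup G} {a : G} (ha : a ∈ A)
    (h : ∀ b ∈ A, (b * a ∈ B ↔ ¬ b ∈ B)) : (B.subgroupOf A).index = 2 := by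
  rw [index_eq_two_iff]
  refine ⟨⟨a, ha⟩, ?_⟩
  rintro ⟨b, hb⟩
  rw [mem_subgroupOf, mem_subgroupOf]
  have h1 := h b hb
  change Xor (b * a ∈ B) (b ∈ B)
  by_cases h2 : b ∈ B
  · exact Or.inr ⟨h2, fun h3 => (h1.1 h3) h2⟩
  · exact Or.inl ⟨h1.2 h2, h2⟩

theorem card_of_index_two {A B : Subgroup G} (hle : B ≤ A) (h : (B.subgroupOf A).index = 2) :
    Nat.card ↥A = 2 * Nat.card ↥B := by
  rw [← relIndex_mul_card' hle]
  change (B.subgroupOf A).index * _ = _
  rw [h]

end

end Cfsg.Agent.H839.Count
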