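import Cfsg.Agent.H839.Walk
import Cfsg.Agent.H839.FrobGen
import Cfsg.Agent.H839.CountB

/-!
# Subgroups of order 11 of `Fi23` (helper839)
-/

set_option autoImplicit false
set_option linter.constructorNameAsVariable false
set_option maxRecDepth 100000

namespace Cfsg.Agent.H839.Fi23

open Subgroup Cfsg Cfsg.Agent.Lib.PermNet Cfsg.Agent.Fischer.Fi23Hom Cfsg.Agent.LThreeFi23
open Cfsg.Agent.H838.Fi23 (SL el_mem elw_mem SL_comm SL_fix stepChk stepChk_spec chain_step DD T_mem el_mem_DD
  DD_conj mem_DD_centralizer)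
open Cfsg.Spor (Fi23)

/-- the second transposition commuting with `y11` -/
noncomputable def tt : Fi23 := T 18119

theorem tt_eq : tt = elw q11 * el .z * (elw q11)⁻¹ := by
  have h : rho (elw q11) 0 = 18119 := by rw [← ptw_eq]; exact Nat.eq_of_beq_eq_true q11_pt
  unfold tt
  rw [← h, T_act _ (by norm_num), T0]

theorem y11_fix {p : ℕ} (hp : p ∈ [0, 18119]) : rho (elw y11) p = p := by
  have h := (pchk_mem fix11 p).2 hp
  have h1 := h.2
  rw [pat_cons] at h1
  by_contra h2
  exact Bool.false_ne_true (h1.1.1 h2)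

theorem y11_tt : elw y11 * tt = tt * elw y11 := (fix_iff _ (by norm_num)).1 (y11_fix (by simp))

theorem y11_z : elw y11 * el .z = el .z * elw y11 := z_y11.symm

theorem z_tt_fix : Nat.beq (ptw [.z] 18119) 18119 = true := by decide +kernel

theorem z_tt : el .z * tt = tt * el .z := by
  have h := Nat.eq_of_beq_eq_true z_tt_fix
  rw [ptw_eq, elw_one] at h
  exact (fix_iff _ (by norm_num)).1 h

theorem cent_fix {w : Fi23} (h : w * tt = tt * w) : rho w 18119 = 18119 := (fix_iff _ (by norm_num)).2 h

/-- an element fixing the points of all the letters but `j` is `1` or `z0` -/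
theorem of_nine {w : Fi23} (h : ∀ x : Lt, x ≠ .j → rho w (pt x) = pt x) : w = 1 ∨ w = el .z := by
  have h0 : rho w 0 = 0 := h .z (by decide)
  have key : ∀ p ∈ [0, 1, 8006], rho w p ∈ [0, 1, 8006] := by
    intro p hp
    refine pchk_act e_P1 ?_ hp
    intro c hc
    simp only [List.mem_cons, List.not_mem_nil, or_false] at hc
    rcases hc with rfl | rfl | rfl | rfl | rfl | rfl | rfl | rfl <;>
      (rw [elw_one]; exact (fix_pt_iff w _).1 (h _ (by decide)))
  have h1 := key 8006 (by simp)
  simp only [List.mem_cons, List.not_mem_nil, or_false] at h1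
  have hz8 : rho (el .z) 1 = 8006 := by
    have hz := rho_uu0
    have h2 : rho (el .j) 0 = 1 := by
      have h3 := T_act (el .j) (p := 0) (by norm_num)
      rw [T0, el_inv, ← T1'] at h3
      exact T_inj (act_lt _ (by norm_num)) (by norm_num) h3
    unfold uu at hz
    rwa [map_mul, Equiv.Perm.mul_apply, h2] at hz
  rcases h1 with h1 | h1 | h1
  · exact absurd ((rho w).injective (h1.trans h0.symm)) (by norm_num)
  · right
    have h2 : el .z * w = 1 := by
      apply comm_of_fix_pt
      intro x
      by_cases hx : x = .j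
      · subst hx
        change rho (el .z * w) 8006 = 8006
        rw [map_mul, Equiv.Perm.mul_apply, h1, hz8]
      · rw [map_mul, Equiv.Perm.mul_apply, h x hx, fix_pt_iff]
        exact z_comm_el x hx
    calc w = (el .z * el .z) * w := by rw [el_sq, one_mul]
      _ = el .z := by rw [mul_assoc, h2, mul_one]
  · left
    apply comm_of_fix_pt
    intro x
    by_cases hx : x = .j
    · subst hx; exact h1
    · exact h x hx

theorem tr_fix {g w : Fi23} {p : ℕ} (hp : rho w (rho g p) = rho g p) : rho (g⁻¹ * w * g) p = p := by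
  rw [map_mul, map_mul, map_inv, Equiv.Perm.mul_apply, Equiv.Perm.mul_apply, hp, Equiv.Perm.inv_eq_iff_eq]

/-- an element commuting with `v11` and fixing `128` and `18119` is `1` or `tt` -/
theorem of_O11 {w : Fi23} (hv : w * elw v11 = elw v11 * w) (hb : rho w 128 = 128) (h1 : rho w 18119 = 18119) :
    w = 1 ∨ w = tt := by
  have hO : ∀ p, O11.testBit p = true → rho w p = p := by
    intro p hp
    refine fix_orbit (ws := [p11 ++ .z :: p11.reverse, v11]) ?_ hb hp
    intro u hu
    simp only [List.mem_cons, List.not_mem_nil, or_false] at hu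
    rcases hu with rfl | rfl
    · exact comm_T_word p11 (b := 128) (by decide +kernel) (by norm_num) hb
    · exact hv
  have hall := allTb_spec O11 L11 orb11
  have hg : rho (elw q11) 0 = 18119 := by rw [← ptw_eq]; exact Nat.eq_of_beq_eq_true q11_pt
  have hm : ∀ p, ptw q11 p ∈ L11 → rho w (rho (elw q11) p) = rho (elw q11) p := by
    intro p hp
    apply hO
    have := hall _ hp
    rwa [ptw_eq] at this
  have hc : (elw q11)⁻¹ * w * elw q11 = 1 ∨ (elw q11)⁻¹ * w * elw q11 = el .z := by
    apply of_nine
    intro x hx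
    apply tr_fix
    cases x
    case j => exact absurd rfl hx
    case z =>
      have h5 : rho w (rho (elw q11) 0) = rho (elw q11) 0 := by rw [hg]; exact h1
      exact h5
    all_goals exact hm _ (by simp [pt, L11])
  rcases hc with hc | hc
  · left
    calc w = elw q11 * ((elw q11)⁻¹ * w * elw q11) * (elw q11)⁻¹ := by group
      _ = 1 := by rw [hc]; group
  · right
    rw [tt_eq]
    calc w = elw q11 * ((elw q11)⁻¹ * w * elw q11) * (elw q11)⁻¹ := by group
      _ = elw q11 * el .z * (elw q11)⁻¹ := by rw [hc]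

/-- the subgroup generated by the two transpositions -/
noncomputable def K4 : Subgroup Fi23 := closure {el .z, tt}

theorem z_mem_K4 : el .z ∈ K4 := subset_closure (by simp)
theorem tt_mem_K4 : tt ∈ K4 := subset_closure (by simp)

theorem K4_comm {g : Fi23} (h1 : g * el .z = el .z * g) (h2 : g * tt = tt * g) {x : Fi23} (hx : x ∈ K4) :
    g * x = x * g := by
  have h : K4 ≤ centralizer ({g} : Set Fi23) := by
    unfold K4
    rw [closure_le]
    rintro x (rfl | rfl)
    · exact mem_centralizer_singleton_iff.2 h1.symm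
    · exact mem_centralizer_singleton_iff.2 h2.symm
  exact (mem_centralizer_singleton_iff.1 (h hx)).symm

theorem K4_comm_y {x : Fi23} (hx : x ∈ K4) : elw y11 * x = x * elw y11 := K4_comm y11_z y11_tt hx

/-- `C(y11) ∩ C(z0) = ⟨y11⟩ × K4` -/
theorem cent11 {w : Fi23} (h : w * elw y11 = elw y11 * w) (h0 : rho w 0 = 0) :
    ∃ i : ℤ, ∃ x ∈ K4, w = elw y11 ^ i * x := by
  have h1 : rho w 18119 = 18119 := by
    rcases fix11' h (Or.inr rfl) with h2 | h2
    · exact absurd ((rho w).injective (h2.trans h0.symm)) (by norm_num)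
    · exact h2
  have hz : w * el .z = el .z * w := comm_el_of_fix (x := .z) rfl h0
  have hv : w * elw v11 = elw v11 * w := by
    rw [v11_eq]
    exact ((show Commute w (elw y11) from h).mul_right (show Commute w (el .z) from hz)).eq
  obtain ⟨k, hk, hb⟩ : ∃ k ∈ zpowers (elw v11), rho (k * w) 128 = 128 := by
    refine orbit_of_cover hv rfl (by decide +kernel) (by norm_num) cover11 good11 ?_
    have h2 := inM_spec in11
    rw [testBit_pattern] at h2 ⊢
    refine ⟨act_lt w h2.1, h2.2.act ?_⟩
    intro c hc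
    simp only [List.mem_cons, List.not_mem_nil, or_false] at hc
    rw [hc, elw_one]
    exact hz
  obtain ⟨i, rfl⟩ := hk
  have hk1 : elw v11 ^ i = elw y11 ^ i * el .z ^ i := by
    rw [v11_eq, (show Commute (elw y11) (el .z) from y11_z).mul_zpow]
  have hvt : Commute (elw v11) tt := by
    rw [v11_eq]
    exact (show Commute (elw y11) tt from y11_tt).mul_left (show Commute (el .z) tt from z_tt)
  have hw' : (elw v11 ^ i * w) * elw v11 = elw v11 * (elw v11 ^ i * w) :=
    (((Commute.refl (elw v11)).zpow_left i).mul_left (show Commute w (elw v11) from hv)).eq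
  have h3 : rho (elw v11 ^ i * w) 18119 = 18119 := by
    rw [map_mul, Equiv.Perm.mul_apply, h1]
    exact cent_fix (hvt.zpow_left i).eq
  have hfin : ∃ x ∈ K4, elw v11 ^ i * w = x := by
    rcases of_O11 hw' hb h3 with h4 | h4
    · exact ⟨1, one_mem _, h4⟩
    · exact ⟨tt, tt_mem_K4, h4⟩
  obtain ⟨x, hx, hwx⟩ := hfin
  refine ⟨-i, el .z ^ (-i) * x, mul_mem (zpow_mem z_mem_K4 _) hx, ?_⟩
  have h5 : w = (elw v11 ^ i)⁻¹ * x := by rw [← hwx]; group
  rw [h5, hk1, mul_inv_rev, ← zpow_neg, ← zpow_neg, ← mul_assoc]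
  congr 1
  exact (((show Commute (el .z) (elw y11) from z_y11).zpow_left (-i)).zpow_right (-i)).eq

theorem z_ne_tt : el .z ≠ tt := by
  intro h
  have h1 : T 0 = T 18119 := by rw [T0]; exact h
  exact absurd (T_inj (by norm_num) (by norm_num) h1) (by norm_num)

theorem tt_sq : tt * tt = 1 := T_sq (by norm_num)

end Cfsg.Agent.H839.Fi23
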