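import Cfsg.Agent.H839.Gen
import Cfsg.Agent.H839.Count

/-!
# Centralizers of elements of order 17, 23, 13 of `Fi23` by walks (helper839)
-/

set_option autoImplicit false
set_option linter.constructorNameAsVariable false
set_option maxRecDepth 100000

namespace Cfsg.Agent.H839.Fi23

open Subgroup Cfsg Cfsg.Agent.Lib.PermNet Cfsg.Agent.Fischer.Fi23Hom Cfsg.Agent.LThreeFi23
open Cfsg.Agent.Lib.PermNetOrbit (sat sat_spec)
open Cfsg.Agent.H838.Fi23 (SL el_mem elw_mem SL_comm SL_fix stepChk stepChk_spec chain_step DD T_mem el_mem_DD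
  DD_conj mem_DD_centralizer)
open Cfsg.Spor (Fi23)

/-- **Walks**: an element `w` commuting with `v` and `y` maps `b` into `⟨y⟩ b` if all points of `S` not in `⟨y⟩ b`
fail the test. -/
theorem orbit_of_walk {w v y : Fi23} (hv : w * v = v * w) (hvy : v * y = y * v)
    {l : List Bool} {b : ℕ} (hb : b < 31671) (hgood : ¬ Bad v l b)
    (hcov : ∃ k ∈ zpowers y, rho k (rho w b) = b ∨ Bad v l (rho k (rho w b))) :
    ∃ k ∈ zpowers y, rho (k * w) b = b := by
  obtain ⟨k, hk, h⟩ := hcov
  have hkv : k * v = v * k := by
    obtain ⟨m, rfl⟩ := hk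
    exact ((show Commute v y from hvy).zpow_right m).eq.symm
  rcases h with h | h
  · exact ⟨k, hk, by rw [map_mul, Equiv.Perm.mul_apply, h]⟩
  · exfalso
    apply hgood
    have h1 : (w⁻¹ * k⁻¹) * v = v * (w⁻¹ * k⁻¹) := by
      have c1 : Commute w v := hv
      have c2 : Commute k v := hkv
      exact (c1.inv_left.mul_left c2.inv_left).eq
    have h2 := h.act (act_lt _ (act_lt _ hb)) h1
    rw [map_mul, Equiv.Perm.mul_apply, map_inv, map_inv, Equiv.Perm.inv_eq_iff_eq.2 rfl,
      Equiv.Perm.inv_eq_iff_eq.2 rfl] at h2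
    exact h2

theorem orbit_of_cover {S b r : ℕ} {y v : List Lt} {l : List Bool} {t : Tr} {pl : List Lt} {w : Fi23}
    (hv : w * elw v = elw v * w) (hvy : elw v * elw y = elw y * elw v)
    (hpl : Nat.beq (ptw pl 0) b = true) (hb : b < 31671)
    (hcov : cover S y v l t pl b r = true) (hgood : good v l pl b = true)
    (hS : S.testBit (rho w b) = true) : ∃ k ∈ zpowers (elw y), rho (k * w) b = b := by
  have hpl' : rho (elw pl) 0 = b := by rw [← ptw_eq]; exact Nat.eq_of_beq_eq_true hpl
  have hM : Msk b (Mw pl) := by rw [← hpl']; exact Mw_msk pl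
  have hvq : ∀ q < 31671, pimg (pls (ntw v)) q = rho (elw v) q := by
    intro q hq
    rw [pimg_pls _ (ntw_ok v) (by omega), rho_elw]
  have hg : ¬ Bad (elw v) l b := by
    intro h
    have h1 := (fails_spec hvq hM l hb).2 h
    unfold good at hgood
    rw [h1] at hgood
    exact Bool.noConfusion hgood
  refine orbit_of_walk hv hvy hb hg ?_
  unfold cover at hcov
  rw [seqB_eq] at hcov
  have h1 : S &&& sat [ntw y] r (2 ^ b ||| walk (pls (ntw v)) l t b (Mw pl)) = S :=
    Nat.eq_of_beq_eq_true hcov
  rw [← h1, Nat.testBit_and, Bool.and_eq_true] at hS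
  obtain ⟨k', ⟨k, hk, rfl⟩, hk'⟩ := sat_spec (K := (zpowers (elw y)).map rho) (N := 2 ^ 15)
    (by
      intro u hu
      rw [List.mem_singleton] at hu
      rw [hu]
      exact ntw_ok y)
    (by
      intro u hu
      rw [List.mem_singleton] at hu
      rw [hu]
      exact ⟨elw y, mem_zpowers _, rho_elw y⟩) r hS.2
  refine ⟨k, hk, ?_⟩
  rw [Nat.testBit_or, Bool.or_eq_true, Nat.testBit_two_pow, decide_eq_true_iff] at hk'
  rcases hk' with h | h
  · exact Or.inl h.symm
  · exact Or.inr (walk_spec hvq l t hb hM h).2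

theorem comm_of_zpowers {k y x : Fi23} (hk : k ∈ zpowers y) (h : y * x = x * y) : k * x = x * k := by
  obtain ⟨m, rfl⟩ := hk
  exact ((show Commute y x from h).zpow_left m).eq

theorem mem_of_mul_eq_one {k y w : Fi23} (hk : k ∈ zpowers y) (h : k * w = 1) : w ∈ zpowers y := by
  have : w = k⁻¹ := (inv_eq_of_mul_eq_one_right h).symm
  rw [this]
  exact inv_mem hk

/-! ### 17 and 23 -/

/-- **`C(y23) = ⟨y23⟩`** -/
theorem cent23 {w : Fi23} (h : w * elw y23 = elw y23 * w) : w ∈ zpowers (elw y23) := by
  obtain ⟨k, hk, hb⟩ := orbit_of_cover h rfl (by decide +kernel) (by norm_num) cover23 good23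
    ((testBit_full _).2 (act_lt w (by norm_num)))
  have hky := comm_of_zpowers hk (x := elw y23) rfl
  have h1 : (k * w) * elw y23 = elw y23 * (k * w) :=
    ((show Commute k (elw y23) from hky).mul_left (show Commute w (elw y23) from h)).eq
  apply mem_of_mul_eq_one hk
  refine eq_one_of_orbit ?_ hb sat23
  intro u hu
  simp only [List.mem_cons, List.not_mem_nil, or_false] at hu
  rcases hu with rfl | rfl
  · exact comm_T_word p23 (b := 3) (by decide +kernel) (by norm_num) hb
  · exact h1

/-- **`C(y17) = ⟨y17⟩`** -/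
theorem cent17 {w : Fi23} (h : w * elw y17 = elw y17 * w) : w ∈ zpowers (elw y17) := by
  obtain ⟨k, hk, hb⟩ := orbit_of_cover h rfl (by decide +kernel) (by norm_num) cover17 good17
    ((testBit_full _).2 (act_lt w (by norm_num)))
  have hky := comm_of_zpowers hk (x := elw y17) rfl
  have h1 : (k * w) * elw y17 = elw y17 * (k * w) :=
    ((show Commute k (elw y17) from hky).mul_left (show Commute w (elw y17) from h)).eq
  apply mem_of_mul_eq_one hk
  refine eq_one_of_orbit ?_ hb sat17
  intro u hu
  simp only [List.mem_cons, List.not_mem_nil, or_false] at hu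
  rcases hu with rfl | rfl
  · exact comm_T_word p17 (b := 459) (by decide +kernel) (by norm_num) hb
  · exact h1

/-! ### 13 -/

/-- an element commuting with `y13`, `z0` and `j` is a power of `y13` -/
theorem cent13core {w : Fi23} (h : w * elw y13 = elw y13 * w) (hz : w * el .z = el .z * w)
    (hj : w * el .j = el .j * w) : w ∈ zpowers (elw y13) := by
  have hv : w * elw v13 = elw v13 * w := by
    rw [v13_eq]
    exact ((show Commute w (el .z) from hz).mul_right (show Commute w (elw y13) from h)).eq
  have hvy : elw v13 * elw y13 = elw y13 * elw v13 := by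
    rw [v13_eq]
    exact ((show Commute (el .z) (elw y13) from z_y13).mul_left (Commute.refl _)).eq
  have h8 : rho w 8006 = 8006 := (fix_pt_iff w .j).2 hj
  have hyz : elw y13 * el .z = el .z * elw y13 := z_y13.symm
  have hyj : elw y13 * el .j = el .j * elw y13 := by
    rw [← elw_one]
    exact comm_words _ _ (by decide +kernel)
  obtain ⟨k, hk, hb⟩ : ∃ k ∈ zpowers (elw y13), rho (k * w) 2 = 2 := by
    refine orbit_of_cover hv hvy (by decide +kernel) (by norm_num) cover13 good13 ?_
    have h2 := inM_spec in13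
    unfold S13
    rw [testBit_delPt]
    · rw [testBit_pattern] at h2 ⊢
      refine ⟨act_lt w h2.1, h2.2.act ?_⟩
      intro c hc
      simp only [List.mem_cons, List.not_mem_nil, or_false] at hc
      rcases hc with rfl | rfl
      · rw [elw_one]; exact hj
      · rw [elw_one]; exact hz
    · intro h3
      have h4 : (2 : ℕ) = 8006 := (rho w).injective (h3.trans h8.symm)
      norm_num at h4
  have hky := comm_of_zpowers hk (x := elw y13) rfl
  have hkz := comm_of_zpowers hk hyz
  have hkj := comm_of_zpowers hk hyj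
  have hkv : k * elw v13 = elw v13 * k := by
    rw [v13_eq]
    exact ((show Commute k (el .z) from hkz).mul_right (show Commute k (elw y13) from hky)).eq
  apply mem_of_mul_eq_one hk
  refine eq_one_of_orbit ?_ hb sat13
  intro u hu
  simp only [List.mem_cons, List.not_mem_nil, or_false] at hu
  rcases hu with rfl | rfl | rfl | rfl
  · exact comm_T_word [.g, .j] (b := 2) (by decide +kernel) (by norm_num) hb
  · exact ((show Commute k (elw v13) from hkv).mul_left (show Commute w (elw v13) from hv)).eq
  · rw [elw_one]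
    exact ((show Commute k (el .j) from hkj).mul_left (show Commute w (el .j) from hj)).eq
  · rw [elw_one]
    exact ((show Commute k (el .z) from hkz).mul_left (show Commute w (el .z) from hz)).eq

end Cfsg.Agent.H839.Fi23
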